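import Mathlib

set_option autoImplicit false
set_option backward.isDefEq.respectTransparency false
universe u
open Polynomial PrimeSpectrum TensorProduct

namespace Groth.Agent.H53.UCInt

/-- Single element version of `PrimeSpectrum.isIntegral_of_isClosedMap_comap_mapRingHom`. -/
theorem isIntegralElem_of_isClosed_image_mapRingHom {R S : Type*} [CommRing R] [CommRing S]
    (f : R →+* S) (r : S)
    (H : IsClosed (comap (mapRingHom f) '' zeroLocus {C r * X - 1})) : f.IsIntegralElem r := by
  rcases subsingleton_or_nontrivial S with hS | hS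
  · exact ⟨1, monic_one, Subsingleton.elim _ _⟩
  have hR : Nontrivial R := f.domain_nontrivial
  let p : S[X] := C r * X - 1
  have : (1 : R[X]) ∈ Ideal.span {X} ⊔ (Ideal.span {p}).comap (mapRingHom f) := by
    rw [← zeroLocus_span, ← closure_eq_iff_isClosed, closure_image_comap_zeroLocus] at H
    rw [← Ideal.eq_top_iff_one, sup_comm, ← zeroLocus_empty_iff_eq_top, zeroLocus_sup, H]
    suffices ∀ (a : PrimeSpectrum S[X]), p ∈ a.asIdeal → X ∉ a.asIdeal by
      simpa [Set.eq_empty_iff_forall_notMem]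
    intro q hpq hXq
    have : 1 ∈ q.asIdeal := by simpa [p] using! (sub_mem (q.asIdeal.mul_mem_left (C r) hXq) hpq)
    exact q.2.ne_top (q.asIdeal.eq_top_iff_one.mpr this)
  obtain ⟨a, b, hb, e⟩ := Ideal.mem_span_singleton_sup.mp this
  obtain ⟨c, hc : b.map f = _⟩ := Ideal.mem_span_singleton.mp hb
  refine ⟨b.reverse * X ^ (1 + c.natDegree), ?_, ?_⟩
  · refine Monic.mul ?_ (by simp)
    have h : b.coeff 0 = 1 := by simpa using! congr(($e).coeff 0)
    have : b.natTrailingDegree = 0 := by simp [h]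
    rw [Monic.def, reverse_leadingCoeff, trailingCoeff, this, h]
  · have : p.natDegree ≤ 1 := by simpa using! natDegree_linear_le (a := r) (b := -1)
    rw [eval₂_eq_eval_map, reverse, Polynomial.map_mul, ← reflect_map, Polynomial.map_pow,
      map_X, ← revAt_zero (1 + _), ← reflect_monomial,
      ← reflect_mul _ _ natDegree_map_le (by simp), pow_zero, mul_one, hc,
      ← add_assoc, reflect_mul _ _ (this.trans (by simp)) le_rfl,
      eval_mul, reflect_sub, reflect_mul _ _ (by simp) (by simp)]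
    simp [← pow_succ']

/-- Tensor product version. -/
theorem isIntegralElem_of_isClosed_image {R B : Type u} [CommRing R] [CommRing B] [Algebra R B]
    (b : B)
    (H : IsClosed (comap (Algebra.TensorProduct.includeRight : R[X] →ₐ[R] B ⊗[R] R[X]).toRingHom ''
      zeroLocus {b ⊗ₜ[R] (X : R[X]) - 1})) :
    (algebraMap R B).IsIntegralElem b := by
  apply isIntegralElem_of_isClosed_image_mapRingHom
  convert H using 1
  let χ : B ⊗[R] R[X] ≃ₐ[R] B[X] := (polyEquivTensor R B).symm
  have hχ1 : χ (b ⊗ₜ[R] (X : R[X]) - 1) = C b * X - 1 := by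
    rw [map_sub, map_one]
    change b • (X : R[X]).map (algebraMap R B) - 1 = _
    rw [Polynomial.map_X, smul_eq_C_mul]
  have hχ2 : ∀ g : R[X], χ (1 ⊗ₜ g) = mapRingHom (algebraMap R B) g := by
    intro g
    change (1 : B) • g.map (algebraMap R B) = _
    rw [one_smul]
    rfl
  ext x
  constructor
  · rintro ⟨v', hv', rfl⟩
    refine ⟨comap χ.toAlgHom.toRingHom v', ?_, ?_⟩
    · rw [mem_zeroLocus, Set.singleton_subset_iff] at hv' ⊢
      change χ (b ⊗ₜ[R] (X : R[X]) - 1) ∈ v'.asIdeal
      rw [hχ1]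
      exact hv'
    · apply PrimeSpectrum.ext
      ext g
      change χ (1 ⊗ₜ g) ∈ v'.asIdeal ↔ mapRingHom (algebraMap R B) g ∈ v'.asIdeal
      rw [hχ2]
  · rintro ⟨v, hv, rfl⟩
    refine ⟨comap χ.symm.toAlgHom.toRingHom v, ?_, ?_⟩
    · rw [mem_zeroLocus, Set.singleton_subset_iff] at hv ⊢
      change χ.symm (C b * X - 1) ∈ v.asIdeal
      rw [← hχ1, AlgEquiv.symm_apply_apply]
      exact hv
    · apply PrimeSpectrum.ext
      ext g
      change χ.symm (mapRingHom (algebraMap R B) g) ∈ v.asIdeal ↔ (1 : B) ⊗ₜ[R] g ∈ v.asIdeal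
      rw [← hχ2, AlgEquiv.symm_apply_apply]

end Groth.Agent.H53.UCInt
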