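import Groth.Agent.H52.UCGeom
import Groth.Agent.H53.EtReduced
import Groth.Agent.H53.SpTop
import Groth.Agent.H53.UCInt.Alg

set_option autoImplicit false
set_option backward.isDefEq.respectTransparency false
universe u
open CategoryTheory CategoryTheory.Limits AlgebraicGeometry TensorProduct Polynomial Opposite
open AlgSp

namespace Groth.Agent.H53.UCInt

open Groth.Agent.H52.UC

/-- Membership in a zero locus of `Spec M` through a morphism from a scheme. -/
theorem mem_zeroLocus_iff_not_mem_basicOpen {M : Type u} [CommRing M] {T : Scheme.{u}}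
    (g : T ⟶ Spec (CommRingCat.of M)) (m : M) (t : ↥T) :
    (g t : PrimeSpectrum M) ∈ PrimeSpectrum.zeroLocus {m} ↔
      t ∉ T.basicOpen (g.appTop ((Scheme.ΓSpecIso (CommRingCat.of M)).inv m)) := by
  have h1 : T.basicOpen (g.appTop ((Scheme.ΓSpecIso (CommRingCat.of M)).inv m)) =
      g ⁻¹ᵁ (Spec (CommRingCat.of M)).basicOpen ((Scheme.ΓSpecIso (CommRingCat.of M)).inv m) :=
    (Scheme.preimage_basicOpen_top g _).symm
  rw [h1, basicOpen_eq_of_affine]
  rw [PrimeSpectrum.mem_zeroLocus, Set.singleton_subset_iff]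
  change _ ↔ ¬ (g t ∈ PrimeSpectrum.basicOpen m)
  rw [PrimeSpectrum.mem_basicOpen, not_not]
  rfl

theorem ΓSpecIso_inv_apply_map {M N : Type u} [CommRing M] [CommRing N] (φ : M →+* N) (m : M) :
    (Scheme.ΓSpecIso (CommRingCat.of N)).inv (φ m) =
      (Spec.map (CommRingCat.ofHom φ)).appTop ((Scheme.ΓSpecIso (CommRingCat.of M)).inv m) := by
  have h := Scheme.ΓSpecIso_inv_naturality (CommRingCat.ofHom φ)
  exact congrArg (fun k => k.hom m) h

theorem appTop_tmul_sub_one {S : Scheme.{u}} {R : Type u} [CommRing R]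
    (sR : Spec (CommRingCat.of R) ⟶ S) {B A : Type u} [CommRing B] [Algebra R B] [CommRing A]
    [Algebra R A] {T : Over S} (π : T ⟶ ZA sR (B ⊗[R] A)) (b : B) (g : A) :
    π.left.appTop ((Scheme.ΓSpecIso (CommRingCat.of (B ⊗[R] A))).inv (b ⊗ₜ[R] g - 1)) =
      (π ≫ zMap sR (Algebra.TensorProduct.includeLeft : B →ₐ[R] B ⊗[R] A)).left.appTop
          ((Scheme.ΓSpecIso (CommRingCat.of B)).inv b) *
        (π ≫ zMap sR (Algebra.TensorProduct.includeRight : A →ₐ[R] B ⊗[R] A)).left.appTop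
          ((Scheme.ΓSpecIso (CommRingCat.of A)).inv g) - 1 := by
  have h1 : b ⊗ₜ[R] g = (Algebra.TensorProduct.includeLeft : B →ₐ[R] B ⊗[R] A).toRingHom b *
      (Algebra.TensorProduct.includeRight : A →ₐ[R] B ⊗[R] A).toRingHom g := by
    change _ = (b ⊗ₜ[R] (1 : A)) * ((1 : B) ⊗ₜ[R] g)
    rw [Algebra.TensorProduct.tmul_mul_tmul, mul_one, one_mul]
  rw [h1, map_sub, map_sub, map_one, map_one, map_mul, map_mul, ΓSpecIso_inv_apply_map,
    ΓSpecIso_inv_apply_map]
  rfl

variable {S : Scheme.{u}} {R : Type u} [CommRing R] (sR : Spec (CommRingCat.of R) ⟶ S)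
  {X₀ : Sp S} (q : X₀ ⟶ (yon S).obj (Over.mk sR))
  {B : Type u} [CommRing B] [Algebra R B] (c : (yon S).obj (ZA sR B) ⟶ X₀)
  (hc : c ≫ q = (yon S).map (gA sR B))

include hc in
theorem isIntegralElem_of_isClosedMap (hce : RepWith @Etale c) (hcs : RepWith @Surjective c)
    (b : B)
    (hb : ∀ (T : Over S) (α β : T ⟶ ZA sR B), (yon S).map α ≫ c = (yon S).map β ≫ c →
      α.left.appTop ((Scheme.ΓSpecIso (CommRingCat.of B)).inv b) =
        β.left.appTop ((Scheme.ΓSpecIso (CommRingCat.of B)).inv b))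
    {XA : Sp S} {fstA : XA ⟶ X₀} {sndA : XA ⟶ (yon S).obj (ZA sR R[X])}
    (sqA : IsPullback fstA sndA q ((yon S).map (gA sR R[X])))
    (Hcl : IsClosedMap (Points.map sndA)) :
    (algebraMap R B).IsIntegralElem b := by
  apply isIntegralElem_of_isClosed_image
  have hche := repWith_etale_chart sR q c hc sqA hce
  have hchs := repWith_surjective_chart sR q c hc sqA hcs
  set ch := chart sR q c hc sqA with hch
  set p : B ⊗[R] R[X] := b ⊗ₜ[R] (X : R[X]) - 1 with hp
  -- saturation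
  have hsat : ∀ v v' : PrimeSpectrum (B ⊗[R] R[X]), Points.ofPt ch v = Points.ofPt ch v' →
      v ∈ PrimeSpectrum.zeroLocus {p} → v' ∈ PrimeSpectrum.zeroLocus {p} := by
    intro v v' hvv' hv
    let E1 : EtOver XA := EtOver.mk ch hche
    obtain ⟨z, hz1, hz2⟩ := Groth.Agent.H53.exists_point_prodObj' E1 E1 v v' hvv'
    let π₁ : (EtOver.prodObj E1 E1).obj.left ⟶ ZA sR (B ⊗[R] R[X]) := (EtOver.prodFst E1 E1).hom.left
    let π₂ : (EtOver.prodObj E1 E1).obj.left ⟶ ZA sR (B ⊗[R] R[X]) := (EtOver.prodSnd E1 E1).hom.left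
    have hw1 : (yon S).map π₁ ≫ ch = (EtOver.prodObj E1 E1).obj.hom := EtOver.w (EtOver.prodFst E1 E1)
    have hw2 : (yon S).map π₂ ≫ ch = (EtOver.prodObj E1 E1).obj.hom := EtOver.w (EtOver.prodSnd E1 E1)
    have key : π₁.left.appTop ((Scheme.ΓSpecIso (CommRingCat.of (B ⊗[R] R[X]))).inv p) =
        π₂.left.appTop ((Scheme.ΓSpecIso (CommRingCat.of (B ⊗[R] R[X]))).inv p) := by
      have a1 := appTop_tmul_sub_one sR π₁ b (X : R[X])
      have a2 := appTop_tmul_sub_one sR π₂ b (X : R[X])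
      refine a1.trans (Eq.trans ?_ a2.symm)
      have hR : π₁ ≫ zMap sR (Algebra.TensorProduct.includeRight : R[X] →ₐ[R] B ⊗[R] R[X]) =
          π₂ ≫ zMap sR (Algebra.TensorProduct.includeRight : R[X] →ₐ[R] B ⊗[R] R[X]) := by
        apply (yon S).map_injective
        rw [Functor.map_comp, Functor.map_comp, ← chart_snd sR q c hc sqA, ← Category.assoc,
          ← Category.assoc, hw1, hw2]
      have hL := hb _ (π₁ ≫ zMap sR (Algebra.TensorProduct.includeLeft : B →ₐ[R] B ⊗[R] R[X]))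
        (π₂ ≫ zMap sR (Algebra.TensorProduct.includeLeft : B →ₐ[R] B ⊗[R] R[X])) (by
          rw [Functor.map_comp, Functor.map_comp, Category.assoc, Category.assoc,
            ← chart_fst sR q c hc sqA, ← Category.assoc, ← Category.assoc, hw1, hw2])
      rw [hR, hL]
    rw [← hz1] at hv
    rw [← hz2]
    have e1 := mem_zeroLocus_iff_not_mem_basicOpen π₁.left p z
    have e2 := mem_zeroLocus_iff_not_mem_basicOpen π₂.left p z
    have hbo := congrArg (fun r => (EtOver.prodObj E1 E1).obj.left.left.basicOpen r) key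
    exact e2.2 (fun h => e1.1 hv (hbo.ge h))
  have hclosed : IsClosed (Points.ofPt ch '' PrimeSpectrum.zeroLocus {p}) := by
    rw [← isOpen_compl_iff]
    have : (Points.ofPt ch '' PrimeSpectrum.zeroLocus {p})ᶜ =
        Points.ofPt ch '' (PrimeSpectrum.zeroLocus {p})ᶜ := by
      ext x
      constructor
      · intro hx
        obtain ⟨v, rfl⟩ := Groth.Agent.H53.surjective_ofPt_of_surjective ch hchs x
        exact ⟨v, fun hv => hx ⟨v, hv, rfl⟩, rfl⟩
      · rintro ⟨v, hv, rfl⟩ ⟨v', hv', h⟩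
        exact hv (hsat v' v h hv')
    rw [this]
    exact Groth.Agent.H53.isOpenMap_ofPt_of_etale ch hche _
      (PrimeSpectrum.isClosed_zeroLocus _).isOpen_compl
  have h2 := isClosedMap_sndPt_of_points_map sR sndA Hcl _ hclosed
  convert h2 using 1
  ext x
  simp only [Set.mem_image]
  constructor
  · rintro ⟨v, hv, rfl⟩
    exact ⟨_, ⟨v, hv, rfl⟩, sndPt_ofPt_chart sR q c hc sqA v⟩
  · rintro ⟨_, ⟨v, hv, rfl⟩, rfl⟩
    exact ⟨v, hv, (sndPt_ofPt_chart sR q c hc sqA v).symm⟩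

end Groth.Agent.H53.UCInt
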