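import Groth.Agent.H53.UCInt.Geom
import Groth.Agent.H52.UCAssembly
import Groth.Agent.H52.QC
import Groth.Agent.Lib.Helper54.AffineDescent
import Groth.Agent.Lib.Helper54.GlobalSecDomain
import Groth.Agent.Lib.Helper78.PureMonoAlg

set_option autoImplicit false
set_option backward.isDefEq.respectTransparency false
universe u
open CategoryTheory CategoryTheory.Limits AlgebraicGeometry TensorProduct Polynomial Opposite
open AlgSp

namespace Groth.Agent.H53.UCInt

open Groth.Agent.H52.UC Groth.Agent.Lib.Helper54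

theorem isoSpec_inv_appTop (X : Scheme.{u}) [IsAffine X] :
    X.isoSpec.inv.appTop = (Scheme.ΓSpecIso Γ(X, ⊤)).inv := by
  rw [← cancel_epi (Scheme.ΓSpecIso Γ(X, ⊤)).hom, Iso.hom_inv_id, ← Scheme.toSpecΓ_appTop,
    ← Scheme.isoSpec_hom, ← Scheme.Hom.comp_appTop, Iso.inv_hom_id]
  rfl

variable {S : Scheme.{u}}

/-- The structure map to `V` of an object of the small étale site of `X` over `V`. -/
noncomputable def strTo {X : Sp S} {V : Over S} (f : X ⟶ (yon S).obj V) (E : EtOver X) :
    E.obj.left ⟶ V := (yon S).preimage (E.obj.hom ≫ f)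

theorem strTo_naturality {X : Sp S} {V : Over S} (f : X ⟶ (yon S).obj V) {E E' : EtOver X}
    (g : E ⟶ E') : g.hom.left ≫ strTo f E' = strTo f E := by
  apply (yon S).map_injective
  rw [Functor.map_comp, strTo, strTo, Functor.map_preimage, Functor.map_preimage,
    ← Category.assoc, EtOver.w]

/-- Pulling back the polynomial relation along a morphism of the small étale site. -/
theorem eval₂_naturality {X : Sp S} {V : Over S} (f : X ⟶ (yon S).obj V)
    (s : ↥(gsectEt (OEt X))) (p : Polynomial Γ(V.left, ⊤)) {E E' : EtOver X} (g : E ⟶ E') :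
    g.hom.left.left.appTop.hom (Polynomial.eval₂ (strTo f E').left.appTop.hom (gsec s E') p) =
      Polynomial.eval₂ (strTo f E).left.appTop.hom (gsec s E) p := by
  rw [Polynomial.hom_eval₂]
  have h1 : g.hom.left.left.appTop.hom (gsec s E') = gsec s E := gsec_naturality s g
  rw [h1]
  congr 1
  rw [← strTo_naturality f g, Over.comp_left, Scheme.Hom.comp_appTop]
  rfl

/-- S10331. -/
theorem exists_monic_eval₂_eq_zero (V : Over S) [IsAffine V.left] {X : Sp S}
    (f : X ⟶ (yon S).obj V) (hqc : IsQuasiCompactMor f) (huc : IsUnivClosedMor f)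
    (s : ↥(gsectEt (OEt X))) :
    ∃ p : Polynomial Γ(V.left, ⊤), p.Monic ∧ ∀ E : EtOver X,
      Polynomial.eval₂ (strTo f E).left.appTop.hom (gsec s E) p = 0 := by
  -- normalise the base
  let sR : Spec (CommRingCat.of Γ(V.left, ⊤)) ⟶ S := V.left.isoSpec.inv ≫ V.hom
  let eV : Over.mk sR ≅ V := Over.isoMk V.left.isoSpec.symm rfl
  let q : X ⟶ (yon S).obj (Over.mk sR) := f ≫ (yon S).map eV.inv
  have hqf : q ≫ (yon S).map eV.hom = f := by
    rw [Category.assoc, ← Functor.map_comp, Iso.inv_hom_id]
    erw [(yon S).map_id]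
    exact Category.comp_id f
  -- affine chart
  have hXqc : IsQuasiCompactSp X :=
    hqc (IsAlgSpace.yon_obj V) (H52.isQuasiCompactSp_yon V) (𝟙 _) (𝟙 X) f
      (IsPullback.of_horiz_isIso ⟨by simp⟩)
  obtain ⟨W, e, hWaff, hee, hes⟩ := exists_affine_etale_chart hXqc
  have _ : IsAffine W.left := hWaff
  obtain ⟨B, _, _, eW, heW⟩ := exists_ZA_iso sR W ((yon S).preimage (e ≫ q))
  let c : (yon S).obj (ZA sR B) ⟶ X := (yon S).map eW.hom ≫ e
  have hc : c ≫ q = (yon S).map (gA sR B) := by
    rw [← heW, Functor.map_comp, Functor.map_preimage, Category.assoc]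
  have hE : (RepWith (S := S) @Etale).IsMultiplicative := repWith_isMultiplicative _
  have hSj : (RepWith (S := S) @Surjective).IsMultiplicative := repWith_isMultiplicative _
  have hce : RepWith @Etale c :=
    hE.comp_mem _ _ ((repWith_yon_map_iff _ _).2 (inferInstanceAs (Etale eW.hom.left))) hee
  have hcs : RepWith @Surjective c :=
    hSj.comp_mem _ _ ((repWith_yon_map_iff _ _).2 (inferInstanceAs (Surjective eW.hom.left))) hes
  let EB : EtOver X := EtOver.mk c hce
  let b : B := (Scheme.ΓSpecIso (CommRingCat.of B)).hom (gsec s EB)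
  have hbinv : (Scheme.ΓSpecIso (CommRingCat.of B)).inv b = gsec s EB :=
    Iso.hom_inv_id_apply _ _
  -- compatibility of `b`
  have hb : ∀ (T : Over S) (α β : T ⟶ ZA sR B), (yon S).map α ≫ c = (yon S).map β ≫ c →
      α.left.appTop ((Scheme.ΓSpecIso (CommRingCat.of B)).inv b) =
        β.left.appTop ((Scheme.ΓSpecIso (CommRingCat.of B)).inv b) := by
    intro T α β hαβ
    rw [hbinv]
    let l : T ⟶ (EtOver.prodObj EB EB).obj.left := EB.property.1.lift' β α hαβ.symm
    have hl1 : l ≫ (EtOver.prodFst EB EB).hom.left = α :=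
      Functor.relativelyRepresentable.lift'_snd _ _ _ _
    have hl2 : l ≫ (EtOver.prodSnd EB EB).hom.left = β :=
      Functor.relativelyRepresentable.lift'_fst _ _ _ _
    rw [← hl1, ← hl2, Over.comp_left, Over.comp_left, Scheme.Hom.comp_appTop,
      Scheme.Hom.comp_appTop]
    change l.left.appTop ((EtOver.prodFst EB EB).hom.left.left.appTop (gsec s EB)) =
      l.left.appTop ((EtOver.prodSnd EB EB).hom.left.left.appTop (gsec s EB))
    rw [gsec_naturality, gsec_naturality]
  -- closedness of the base change to the affine line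
  have sqA := IsPullback.of_hasPullback q ((yon S).map (gA sR Γ(V.left, ⊤)[X]))
  have Hcl : IsClosedMap (Points.map (pullback.snd q ((yon S).map (gA sR Γ(V.left, ⊤)[X])))) := by
    refine huc (IsAlgSpace.yon_obj _) ((yon S).map (gA sR Γ(V.left, ⊤)[X]) ≫ (yon S).map eV.hom)
      (pullback.fst _ _) _ ?_
    refine IsPullback.of_iso sqA (Iso.refl _) (Iso.refl _) (Iso.refl _) ((yon S).mapIso eV)
      (by simp) (by simp) ?_ (by simp)
    rw [Functor.mapIso_hom, hqf]
    simp
  obtain ⟨p, hpm, hp0⟩ := isIntegralElem_of_isClosedMap sR q c hc hce hcs b hb sqA Hcl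
  have hstr : strTo f EB = gA sR B ≫ eV.hom := by
    apply (yon S).map_injective
    rw [strTo, Functor.map_preimage, Functor.map_comp, ← hc, Category.assoc, hqf]
    rfl
  have hEB : Polynomial.eval₂ (strTo f EB).left.appTop.hom (gsec s EB) p = 0 := by
    have h1 : (strTo f EB).left.appTop =
        CommRingCat.ofHom (algebraMap Γ(V.left, ⊤) B) ≫ (Scheme.ΓSpecIso (CommRingCat.of B)).inv := by
      rw [hstr, Over.comp_left, Scheme.Hom.comp_appTop, Scheme.ΓSpecIso_inv_naturality]
      congr 1
      exact isoSpec_inv_appTop V.left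
    have h2 : (strTo f EB).left.appTop.hom =
        ((Scheme.ΓSpecIso (CommRingCat.of B)).inv.hom).comp (algebraMap Γ(V.left, ⊤) B) := by
      rw [h1]
      rfl
    rw [h2, ← hbinv]
    have h3 := Polynomial.hom_eval₂ p (algebraMap Γ(V.left, ⊤) B)
      (Scheme.ΓSpecIso (CommRingCat.of B)).inv.hom b
    rw [hp0, map_zero] at h3
    exact h3.symm
  refine ⟨p, hpm, fun E => ?_⟩
  have hsurj : Surjective (EtOver.prodFst E EB).hom.left.left := hcs.property_snd E.obj.hom
  have het : Etale (EtOver.prodFst E EB).hom.left.left := EtOver.etale_left _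
  have hinj := Groth.Agent.Lib.Helper78.PureMono.appTop_injective_of_flat_of_surjective
    (EtOver.prodFst E EB).hom.left.left
  apply hinj
  rw [map_zero, eval₂_naturality f s p (EtOver.prodFst E EB),
    ← eval₂_naturality f s p (EtOver.prodSnd E EB), hEB, map_zero]

end Groth.Agent.H53.UCInt
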